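import Mathlib
import Groth.Prelude
import Groth.Agent.LocZLib.Flasque

/-!
# Sections with supports of an injective sheaf are injective
-/

set_option autoImplicit false
set_option backward.isDefEq.respectTransparency false
set_option linter.style.haveILetI false

universe u

open CategoryTheory CategoryTheory.Limits TopologicalSpace Opposite

noncomputable section

namespace Groth.Agent.LocZInj

open Groth.Agent.LocZLib

variable {X : TopCat.{u}} (U : Opens X)

theorem isIso_unit_app (F : CohTop.Ab X) {W : Opens X} (h : W ≤ U) :
    IsIso (((outsideUnit U).app F).hom.app (op W)) := by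
  rw [unit_app_eq]
  have e : ((restrPushAdj U).unit.app F).hom.app (op W) =
      F.obj.map (eqToHom ((functor_map_eq U W).trans (inf_eq_left.2 h))).op := rfl
  haveI : IsIso (((restrPushAdj U).unit.app F).hom.app (op W)) := by
    rw [e]; infer_instance
  haveI : IsIso (((CohTop.push (CohCx.incl U)).map ((restrPullIso U).hom.app F)).hom.app (op W)) :=
    inferInstanceAs (IsIso (((sheafToPresheaf _ _).map
      ((CohTop.push (CohCx.incl U)).map ((restrPullIso U).hom.app F))).app (op W)))
  change IsIso (((restrPushAdj U).unit.app F).hom.app (op W) ≫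
    ((CohTop.push (CohCx.incl U)).map ((restrPullIso U).hom.app F)).hom.app (op W))
  infer_instance

/-- The subpresheaf of sections living on opens inside `U`. -/
def innerPre (A : CohTop.Ab X) : (Opens X)ᵒᵖ ⥤ AddCommGrpCat.{u} where
  obj V := AddCommGrpCat.of ({ carrier := {s : A.obj.obj V | V.unop ≤ U ∨ s = 0}
                               zero_mem' := Or.inr rfl
                               add_mem' := fun {a b} ha hb => by
                                 rcases ha with h | rfl
                                 · exact Or.inl h
                                 · rwa [zero_add]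
                               neg_mem' := fun {a} ha => ha.imp id (fun h => by rw [h, neg_zero]) } :
                             AddSubgroup (A.obj.obj V))
  map {V W} g := AddCommGrpCat.ofHom (AddMonoidHom.codRestrict
    ((A.obj.map g).hom.comp (AddSubgroup.subtype _)) _ (fun s => s.2.imp
      (fun h => (leOfHom g.unop).trans h) (fun h => by
        show A.obj.map g (s : A.obj.obj V) = 0
        rw [h, map_zero])))
  map_id V := by
    refine ConcreteCategory.hom_ext _ _ fun s => Subtype.ext ?_
    exact ConcreteCategory.congr_hom (A.obj.map_id V) s.1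
  map_comp g g' := by
    refine ConcreteCategory.hom_ext _ _ fun s => Subtype.ext ?_
    exact ConcreteCategory.congr_hom (A.obj.map_comp g g') s.1

/-- The inclusion. -/
def innerIncl (A : CohTop.Ab X) : innerPre U A ⟶ A.obj where
  app V := AddCommGrpCat.ofHom (AddSubgroup.subtype _)
  naturality _ _ _ := rfl

instance mono_innerIncl (A : CohTop.Ab X) : Mono (innerIncl U A) := by
  haveI : ∀ V, Mono ((innerIncl U A).app V) := fun V =>
    (AddCommGrpCat.mono_iff_injective _).2 Subtype.val_injective
  exact NatTrans.mono_of_mono_app _

theorem injective_res_outside (I : CohTop.Ab X) (V : Opens X) :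
    Function.Injective (((outside U).obj I).obj.map (homOfLE (inf_le_left : V ⊓ U ≤ V)).op) :=
  (mono_unit_iff U _).1 (mono_unit_push U _) V

open Classical in
theorem exists_lift_outside (I : CohTop.Ab X) [Injective I] {A : CohTop.Ab X}
    (ψ : A ⟶ (outside U).obj I) : ∃ h : A ⟶ I, h ≫ (outsideUnit U).app I = ψ := by
  let J := Opens.grothendieckTopology X
  let u := (outsideUnit U).app I
  have hu : ∀ {W : Opens X}, W ≤ U → Function.Bijective (u.hom.app (op W)) := fun {W} hW =>
    haveI := isIso_unit_app U I hW
    ConcreteCategory.bijective_of_isIso (u.hom.app (op W))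
  let t : ∀ V : (Opens X)ᵒᵖ, A.obj.obj V → I.obj.obj V := fun V s =>
    if h : V.unop ≤ U then (Equiv.ofBijective _ (hu h)).symm (ψ.hom.app V s) else 0
  have ht : ∀ (V : (Opens X)ᵒᵖ), V.unop ≤ U → ∀ s, u.hom.app V (t V s) = ψ.hom.app V s := fun V h s => by
    simp only [t, dif_pos h]
    exact Equiv.ofBijective_apply_symm_apply _ (hu h) _
  have ht0 : ∀ V, t V 0 = 0 := fun V => by
    by_cases h : V.unop ≤ U
    · exact (hu h).1 ((ht V h 0).trans ((map_zero _).trans (map_zero _).symm))
    · simp only [t, dif_neg h]
  let θ : innerPre U A ⟶ I.obj :=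
    { app := fun V => AddCommGrpCat.ofHom (AddMonoidHom.mk' (fun s => t V s.1) (fun a b => by
        by_cases h : V.unop ≤ U
        · refine (hu h).1 ?_
          refine (ht V h _).trans (Eq.trans ?_ (map_add _ _ _).symm)
          rw [ht V h, ht V h]
          exact map_add _ _ _
        · simp only [t, dif_neg h, add_zero]))
      naturality := fun {V W} g => by
        ext s
        show t W (A.obj.map g s.1) = I.obj.map g (t V s.1)
        rcases s.2 with h | h
        · have hW := (leOfHom g.unop).trans h
          refine (hu hW).1 ((ht W hW _).trans ?_)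
          refine Eq.trans ?_ (NatTrans.naturality_apply u.hom g _).symm
          rw [ht V h]
          exact NatTrans.naturality_apply ψ.hom g s.1
        · rw [h, map_zero, ht0, ht0, map_zero] }
  let q : (presheafToSheaf J AddCommGrpCat.{u}).obj (innerPre U A) ⟶ A :=
    ((sheafificationAdjunction J AddCommGrpCat.{u}).homEquiv _ _).symm (innerIncl U A)
  haveI : Mono q := by
    simp only [q, Adjunction.homEquiv_counit]
    haveI : Mono ((presheafToSheaf J AddCommGrpCat.{u}).map (innerIncl U A)) := inferInstance
    exact mono_comp _ _
  let r : (presheafToSheaf J AddCommGrpCat.{u}).obj (innerPre U A) ⟶ I :=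
    ((sheafificationAdjunction J AddCommGrpCat.{u}).homEquiv _ _).symm θ
  let h := Injective.factorThru r q
  have key : innerIncl U A ≫ h.hom = θ := by
    have e : q ≫ h = r := Injective.comp_factorThru r q
    have e' := congrArg ((sheafificationAdjunction J AddCommGrpCat.{u}).homEquiv _ _) e
    rw [Adjunction.homEquiv_naturality_right] at e'
    simp only [q, r, Equiv.apply_symm_apply] at e'
    exact e'
  refine ⟨h, ?_⟩
  apply Sheaf.hom_ext
  ext V s
  apply injective_res_outside U I V.unop
  let W := V.unop ⊓ U
  have hW : W ≤ U := inf_le_right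
  refine (NatTrans.naturality_apply (h ≫ u).hom (homOfLE (inf_le_left : W ≤ V.unop)).op s).symm.trans ?_
  refine Eq.trans ?_ (NatTrans.naturality_apply ψ.hom (homOfLE (inf_le_left : W ≤ V.unop)).op s)
  have e := ConcreteCategory.congr_hom (congrArg (fun z => z.app (op W)) key)
    (⟨A.obj.map (homOfLE (inf_le_left : W ≤ V.unop)).op s, Or.inl hW⟩ : (innerPre U A).obj (op W))
  exact (congrArg (u.hom.app (op W)) e).trans (ht (op W) hW _)

instance injective_sectSupp (I : CohTop.Ab X) [Injective I] :
    Injective ((LocCohZ.sectSuppF U).obj I) := by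
  refine ⟨fun {A B} g a _ => ?_⟩
  let ι : (LocCohZ.sectSuppF U).obj I ⟶ I := (suppι U).app I
  haveI : Mono ι := inferInstanceAs (Mono (kernel.ι ((outsideUnit U).app I)))
  let f := Injective.factorThru (g ≫ ι) a
  have hf : a ≫ f = g ≫ ι := Injective.comp_factorThru _ _
  have hz : a ≫ f ≫ (outsideUnit U).app I = 0 := by
    rw [reassoc_of% hf, show ι ≫ (outsideUnit U).app I = 0 from suppι_unit U I, comp_zero]
  obtain ⟨l, hl⟩ := exists_lift_outside U I (cokernel.desc a _ hz)
  refine ⟨kernel.lift _ (f - cokernel.π a ≫ l) ?_, ?_⟩
  · show (f - cokernel.π a ≫ l) ≫ (outsideUnit U).app I = 0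
    rw [Preadditive.sub_comp, Category.assoc, hl, cokernel.π_desc, sub_self]
  · rw [← cancel_mono ι]
    show (a ≫ kernel.lift _ _ _) ≫ kernel.ι _ = _
    rw [Category.assoc, kernel.lift_ι, Preadditive.comp_sub, hf, cokernel.condition_assoc, zero_comp,
      sub_zero]

theorem injective_sectSuppLC (F : CohTop.Ab X) {W V : Opens X} (h : W ≤ V) [Injective F] :
    Injective ((SuppFam.sectSuppLC h).obj F) := by
  haveI : Injective ((CohTop.restrFunctor V).obj F) := injective_restr V F
  haveI : Injective ((LocCohZ.sectSuppF (SuppFam.inOpen V W)).obj ((CohTop.restrFunctor V).obj F)) :=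
    injective_sectSupp (X := TopCat.of V) _ _
  exact injective_push V _

end Groth.Agent.LocZInj
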